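import Cfsg.Agent.Classification.SimpleThreeSixty.Check
import Cfsg.Agent.Classification.SmallOrders.Case720
import Cfsg.Agent.Classification.PSLTwoSmall.Iso

/-!
# Simple groups of order 360

Such a group is, as a permutation group on its ten Sylow 3-subgroups, one fixed subgroup of
`Equiv.Perm (Fin 10)`; in particular any two are isomorphic.
-/

set_option autoImplicit false

namespace CfsgLib.Classification.SimpleThreeSixty

open CfsgLib.Small CfsgLib.Classification.SmallOrders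

/-- The generators of the permutation group of order 360. -/
def genSet : Set (Equiv.Perm (Fin 10)) :=
  {σ | (∀ x : Fin 10, (σ x : ℕ) = tr 1 x) ∨ (∀ x : Fin 10, (σ x : ℕ) = rot x) ∨
    ∀ x : Fin 10, (σ x : ℕ) = wFix x}

variable {G : Type*} [Group G] [Finite G] [IsSimpleGroup G]

theorem not_comm (hN : Nat.card G = 360) : ¬ IsMulCommutative G := fun hc => by
  have := CfsgLib.Classification.PSLTwoSmall.prime_card_of_comm hc
  rw [hN] at this
  norm_num at this

theorem card_sylow_three (hN : Nat.card G = 360) [Fact (Nat.Prime 3)] :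
    Nat.card (Sylow 3 G) = 10 := by
  have hG := not_comm hN
  have hN' : Nat.card G = 3 ^ 2 * 40 := hN
  have hd := card_sylow_dvd (p := 3) hN' (by norm_num)
  have hmod := card_sylow_mod (G := G) 3
  have h1 := card_sylow_ne_one hG (p := 3) (by rw [hN]; norm_num)
  have h2 := two_mul_card_dvd_factorial_sylow hG (p := 3) (by rw [hN]; norm_num)
  rw [hN] at h2
  have h40 : Nat.card (Sylow 3 G) ≠ 40 := by
    intro e
    obtain ⟨P⟩ : Nonempty (Sylow 3 G) := inferInstance
    have h9 : Nat.card (P : Subgroup G) = 3 ^ 2 := card_sylow_eq hN' (by norm_num) P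
    have hmul := card_sylow_mul_card_normalizer P
    rw [e, hN] at hmul
    have heq := Subgroup.eq_of_le_of_card_ge
      (Subgroup.le_normalizer : (P : Subgroup G) ≤ Subgroup.normalizer ((P : Subgroup G) : Set G))
      (by
        rw [h9]
        generalize Nat.card (Subgroup.normalizer ((P : Subgroup G) : Set G)) = b at hmul ⊢
        norm_num
        omega)
    refine not_normalizer_le_centralizer hG (p := 3) (by rw [hN]; norm_num) P ?_
    rw [← heq]
    intro a ha
    rw [Subgroup.mem_centralizer_iff]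
    intro b hb
    exact congrArg Subtype.val (IsPGroup.commutative_of_card_eq_prime_sq h9 ⟨b, hb⟩ ⟨a, ha⟩)
  have h4 : Nat.card (Sylow 3 G) ≠ 4 := fun e => by rw [e] at h2; norm_num [Nat.factorial] at h2
  have := mem_divisors_of_dvd hd (by norm_num)
  rw [show Nat.divisors 40 = {1, 2, 4, 5, 8, 10, 20, 40} by decide] at this
  simp only [Finset.mem_insert, Finset.mem_singleton] at this
  omega

/-- No nontrivial element of `P` lies in a second Sylow subgroup fixed by a Sylow 2-subgroup of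
`N(P)`. -/
theorem inf_eq_bot_of_fixed (hN : Nat.card G = 360) [Fact (Nat.Prime 3)] {P R : Sylow 3 G}
    (hne : P ≠ R) {T : Subgroup G} (hTP : T ≤ Subgroup.normalizer ((P : Subgroup G) : Set G))
    (hTR : T ≤ Subgroup.normalizer ((R : Subgroup G) : Set G)) (hT : Nat.card T = 4) :
    (P : Subgroup G) ⊓ (R : Subgroup G) = ⊥ := by
  have hG := not_comm hN
  have hN' : Nat.card G = 3 ^ 2 * 40 := hN
  have hP9 : ∀ S : Sylow 3 G, Nat.card (S : Subgroup G) = 3 ^ 2 :=
    card_sylow_eq hN' (by norm_num)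
  by_contra hbot
  set D := (P : Subgroup G) ⊓ (R : Subgroup G) with hDdef
  have hD3 : Nat.card D = 3 := by
    have hd := mem_divisors_of_dvd
      (hP9 P ▸ Subgroup.card_dvd_of_le (inf_le_left : D ≤ (P : Subgroup G))) (by norm_num)
    rw [show Nat.divisors (3 ^ 2) = {1, 3, 9} by decide] at hd
    simp only [Finset.mem_insert, Finset.mem_singleton] at hd
    rcases hd with e | e | e
    · exact absurd (Subgroup.card_eq_one.1 e) hbot
    · exact e
    · exfalso
      have heq : D = (P : Subgroup G) :=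
        Subgroup.eq_of_le_of_card_ge inf_le_left (by rw [e, hP9]; norm_num)
      exact hne (Sylow.ext (Subgroup.eq_of_le_of_card_ge (heq ▸ inf_le_right)
        (le_of_eq (by rw [hP9, hP9]))))
  have habS : ∀ S : Sylow 3 G, D ≤ (S : Subgroup G) →
      (S : Subgroup G) ≤ Subgroup.normalizer (D : Set G) := by
    intro S hS
    refine le_trans ?_ (Subgroup.centralizer_le_normalizer _)
    intro a ha
    rw [Subgroup.mem_centralizer_iff]
    intro d hd
    exact congrArg Subtype.val (IsPGroup.commutative_of_card_eq_prime_sq (hP9 S) ⟨d, hS hd⟩ ⟨a, ha⟩)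
  have hPM := habS P inf_le_left
  have hRM := habS R inf_le_right
  set M := Subgroup.normalizer (D : Set G) with hM
  have hMtop : M ≠ ⊤ := normalizer_ne_top (fun e => by rw [e, Subgroup.card_bot] at hD3; omega)
    (fun e => by
      have := Subgroup.card_top (G := G)
      rw [← e, hD3, hN] at this; omega)
  obtain ⟨c, hc⟩ := hP9 P ▸ Subgroup.card_dvd_of_le hPM
  have hcd : c * M.index = 40 := by
    have h := Subgroup.card_mul_index M
    rw [hc, hN, mul_assoc] at h
    omega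
  have hfac := two_mul_card_dvd_factorial_index hG M hMtop
  rw [hN] at hfac
  have h6 : 6 ≤ M.index := by
    by_contra hlt
    exact absurd (hfac.trans (Nat.factorial_dvd_factorial (show M.index ≤ 5 by omega))) (by decide)
  have hc6 : c ≤ 6 := by nlinarith
  have hn1 : Nat.card (Sylow 3 M) ≠ 1 := fun h1 => by
    haveI : Subsingleton (Sylow 3 M) := (Nat.card_eq_one_iff_unique.1 h1).1
    exact hne (Sylow.subtype_injective (hP := hPM) (hQ := hRM) (Subsingleton.elim _ _))
  have hnd : Nat.card (Sylow 3 M) ∣ c := card_sylow_dvd hc (fun h => by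
    have := h.trans (Dvd.intro _ hcd)
    norm_num at this)
  have hnmod := card_sylow_mod (G := M) 3
  have hc0 : 0 < c := Nat.pos_of_ne_zero fun e => by rw [e, zero_mul] at hcd; omega
  have hle := Nat.le_of_dvd hc0 hnd
  have hpos : 0 < Nat.card (Sylow 3 M) := Nat.card_pos
  obtain ⟨hn4, hc4⟩ : Nat.card (Sylow 3 M) = 4 ∧ c = 4 := by
    obtain ⟨j, hj⟩ := hnd
    have hn4 : Nat.card (Sylow 3 M) = 4 := by omega
    rw [hn4] at hj
    omega
  have hTM : T ≤ M := fun a ha => by
    refine Subgroup.mem_normalizer_iff.2 fun x => ?_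
    show x ∈ (P : Subgroup G) ∧ x ∈ (R : Subgroup G) ↔ _ ∧ _
    rw [Subgroup.mem_normalizer_iff.1 (hTP ha) x, Subgroup.mem_normalizer_iff.1 (hTR ha) x]
    exact Iff.rfl
  have h4 := Subgroup.card_dvd_of_le (le_inf hTM hTP)
  rw [hT] at h4
  have h := card_inf_normalizer_mul P hPM
  rw [hn4, hc, hc4] at h
  omega

theorem exists_model (hN : Nat.card G = 360) :
    ∃ ρ : G →* Equiv.Perm (Fin 10), Function.Injective ρ ∧ ρ.range = Subgroup.closure genSet := by
  classical
  haveI := fact_prime Nat.prime_three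
  haveI := fact_prime Nat.prime_two
  have hG := not_comm hN
  have hN' : Nat.card G = 3 ^ 2 * 40 := hN
  cases nonempty_fintype (Sylow 3 G)
  have hn := card_sylow_three hN
  obtain ⟨P⟩ : Nonempty (Sylow 3 G) := inferInstance
  have hP9 : Nat.card (P : Subgroup G) = 9 := by simpa using card_sylow_eq hN' (by norm_num) P
  have hab : IsMulCommutative (P : Subgroup G) :=
    ⟨⟨IsPGroup.commutative_of_card_eq_prime_sq (p := 3) (by rw [hP9]; norm_num)⟩⟩
  set N := Subgroup.normalizer ((P : Subgroup G) : Set G) with hNdef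
  have hN36 : Nat.card N = 36 := by
    have h := card_sylow_mul_card_normalizer P
    rw [hn, hN, ← hNdef] at h
    omega
  obtain ⟨E⟩ : Nonempty (Sylow 2 N) := inferInstance
  set T := (E : Subgroup N).map N.subtype with hT
  have hTc : Nat.card T = 4 := by
    rw [hT, Subgroup.card_map_of_injective N.subtype_injective]
    simpa using card_sylow_eq (G := N) (p := 2) (k := 2) (m := 9) (by rw [hN36]; norm_num)
      (by norm_num) E
  have hTN : T ≤ N := Subgroup.map_subtype_le _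
  have hTfixP : ∀ g ∈ T, g • P = P := fun g hg => Sylow.smul_eq_iff_mem_normalizer.2 (hTN hg)
  -- `T` fixes a second Sylow subgroup
  let S : SubMulAction ↥T (Sylow 3 G) :=
    { carrier := {Q | Q ≠ P}
      smul_mem' := fun a Q hQ h => hQ (smul_left_cancel (a : G) (h.trans (hTfixP a a.2).symm)) }
  have hScard : Nat.card S = 9 := by
    show Nat.card {Q : Sylow 3 G // Q ≠ P} = 9
    rw [Nat.card_eq_fintype_card, Fintype.card_subtype_compl, Fintype.card_subtype_eq,
      ← Nat.card_eq_fintype_card, hn]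
  have hmod := (E.isPGroup'.map N.subtype).card_modEq_card_fixedPoints S
  rw [hScard, Nat.ModEq] at hmod
  obtain ⟨⟨⟨R₀, hR₀⟩, hfix⟩⟩ : Nonempty (MulAction.fixedPoints ↥T S) := by
    by_contra hcon
    rw [not_nonempty_iff] at hcon
    rw [Nat.card_of_isEmpty] at hmod
    omega
  have hR₀ne : R₀ ≠ P := hR₀
  have hTfixR : ∀ g ∈ T, g • R₀ = R₀ := fun g hg => congrArg Subtype.val (hfix ⟨g, hg⟩)
  have hbot := inf_eq_bot_of_fixed hN hR₀ne.symm hTN
    (fun g hg => Sylow.smul_eq_iff_mem_normalizer.1 (hTfixR g hg)) hTc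
  have hfixP : ∀ a ∈ (P : Subgroup G), a • P = P := fun a ha =>
    Sylow.smul_eq_iff_mem_normalizer.2 (Subgroup.le_normalizer ha)
  have hreg : ∀ a ∈ (P : Subgroup G), a • R₀ = R₀ → a = 1 := by
    intro a ha h
    have hz : IsPGroup 3 (Subgroup.zpowers a) := P.isPGroup'.to_le (Subgroup.zpowers_le.2 ha)
    have hR : a ∈ (R₀ : Subgroup G) :=
      ((hz.inf_normalizer_sylow R₀).le
        ⟨Subgroup.mem_zpowers _, Sylow.smul_eq_iff_mem_normalizer.1 h⟩).2
    have hm : a ∈ (P : Subgroup G) ⊓ (R₀ : Subgroup G) := ⟨ha, hR⟩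
    rwa [hbot, Subgroup.mem_bot] at hm
  have hPR : ∀ a ∈ (P : Subgroup G), a • R₀ ≠ P := fun a ha h =>
    hR₀ne (smul_left_cancel a (h.trans (hfixP a ha).symm))
  have hRinj : ∀ a ∈ (P : Subgroup G), ∀ b ∈ (P : Subgroup G), a • R₀ = b • R₀ → a = b := by
    intro a ha b hb h
    have := hreg (b⁻¹ * a) (mul_mem (inv_mem hb) ha) (by rw [mul_smul, h, inv_smul_smul])
    exact (inv_mul_eq_one.1 this).symm
  have hPT : ∀ g ∈ T, g ∈ (P : Subgroup G) → g = 1 := fun g hg hgP =>
    hreg g hgP (hTfixR g hg)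
  -- `N = T P`, so `T` is the two point stabiliser
  have hdecomp : ∀ g, g • P = P → ∃ a ∈ (P : Subgroup G), ∃ t ∈ T, g = t * a := by
    intro g hg
    let f : ↥T × ↥(P : Subgroup G) → N := fun z =>
      ⟨(z.1 : G) * z.2, mul_mem (hTN z.1.2) (Subgroup.le_normalizer z.2.2)⟩
    have hfinj : Function.Injective f := by
      intro z z' h
      have h' : (z.1 : G) * z.2 = z'.1 * z'.2 := congrArg Subtype.val h
      have h1 : (z'.1 : G)⁻¹ * z.1 = z'.2 * (z.2 : G)⁻¹ := by
        rw [eq_mul_inv_iff_mul_eq, mul_assoc, h', inv_mul_cancel_left]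
      have h2 := hPT _ (mul_mem (inv_mem z'.1.2) z.1.2) (h1 ▸ mul_mem z'.2.2 (inv_mem z.2.2))
      have h3 : z.1 = z'.1 := Subtype.ext (inv_mul_eq_one.1 h2).symm
      refine Prod.ext h3 (Subtype.ext ?_)
      rw [h3] at h'
      exact mul_left_cancel h'
    obtain ⟨⟨t, a⟩, hta⟩ := ((Nat.bijective_iff_injective_and_card f).2 ⟨hfinj, by
      rw [Nat.card_prod, hTc, hP9, hN36]⟩).2 ⟨g, Sylow.smul_eq_iff_mem_normalizer.1 hg⟩
    exact ⟨a, a.2, t, t.2, (congrArg Subtype.val hta).symm⟩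
  have hmemT : ∀ g, g • P = P → g • R₀ = R₀ → g ∈ T := by
    intro g hg hgR
    obtain ⟨a, ha, t, ht, rfl⟩ := hdecomp g hg
    rw [mul_smul] at hgR
    have := hreg a ha (smul_left_cancel t (hgR.trans (hTfixR t ht).symm))
    rw [this, mul_one]
    exact ht
  -- involutions of `T` invert `P`
  have hbijP : Function.Bijective
      (fun a : ↥(P : Subgroup G) => (⟨(a : G) • R₀, hPR a a.2⟩ : {Q : Sylow 3 G // Q ≠ P})) :=
    (Nat.bijective_iff_injective_and_card _).2 ⟨fun a b h =>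
      Subtype.ext (hRinj a a.2 b b.2 (congrArg Subtype.val h)), by
      rw [hP9, ← hScard]; rfl⟩
  have hconjP : ∀ g ∈ T, ∀ a ∈ (P : Subgroup G), g * a * g⁻¹ ∈ (P : Subgroup G) := fun g hg a ha =>
    (Subgroup.mem_normalizer_iff.1 (hTN hg) a).1 ha
  have hactT : ∀ g ∈ T, ∀ a : G, g • (a • R₀) = (g * a * g⁻¹) • R₀ := fun g hg a => by
    have h : (g * a * g⁻¹) • (g • R₀) = g • (a • R₀) := by
      rw [← mul_smul, ← mul_smul, mul_assoc _ g⁻¹ g, inv_mul_cancel, mul_one]
    rw [hTfixR g hg] at h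
    exact h.symm
  have hinvol : ∀ t ∈ T, t * t = 1 → t ≠ 1 → ∀ x ∈ (P : Subgroup G), t * x * t⁻¹ = x⁻¹ := by
    intro t ht htt ht1 x hx
    refine inverts_of_fixedPointFree hab htt (hTN ht) ?_ hx
    let C : Subgroup ↥(P : Subgroup G) :=
      (Subgroup.centralizer ({t} : Set G)).subgroupOf (P : Subgroup G)
    have hC : ∀ y : ↥(P : Subgroup G), y ∈ C ↔ t * y * t⁻¹ = y := fun y => by
      rw [Subgroup.mem_subgroupOf, Subgroup.mem_centralizer_singleton_iff, mul_inv_eq_iff_eq_mul,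
        eq_comm]
    -- moved points are the elements of `P` moved by `t`
    have hmoved : Nat.card {Q : Sylow 3 G // t • Q ≠ Q} + Nat.card C = 9 := by
      let f : {y : ↥(P : Subgroup G) // y ∉ C} → {Q : Sylow 3 G // t • Q ≠ Q} :=
        fun y => ⟨(y.1 : G) • R₀, fun h => y.2 ((hC _).2
            (hRinj _ (hconjP t ht _ y.1.2) _ y.1.2 ((hactT t ht _).symm.trans h)))⟩
      have e : {y : ↥(P : Subgroup G) // y ∉ C} ≃ {Q : Sylow 3 G // t • Q ≠ Q} := by
        refine Equiv.ofBijective f ⟨fun y y' h => Subtype.ext (Subtype.ext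
          (hRinj _ y.1.2 _ y'.1.2 (congrArg Subtype.val h))), ?_⟩
        rintro ⟨Q, hQ⟩
        obtain ⟨a, ha⟩ := hbijP.2 ⟨Q, fun h => hQ (by rw [h]; exact hTfixP t ht)⟩
        have ha' : (a : G) • R₀ = Q := congrArg Subtype.val ha
        refine ⟨⟨a, fun hy => hQ ?_⟩, Subtype.ext ha'⟩
        rw [hC] at hy
        rw [← ha', hactT t ht, hy]
      rw [← Nat.card_congr e, ← hP9]
      cases nonempty_fintype ↥(P : Subgroup G)
      rw [Nat.card_eq_fintype_card, Fintype.card_subtype_compl, Nat.card_eq_fintype_card,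
        Nat.card_eq_fintype_card]
      exact Nat.sub_add_cancel (Fintype.card_subtype_le _)
    have h4 := four_dvd_moved hG (α := Sylow 3 G) htt
    have hC9 := Subgroup.card_subgroup_dvd_card C
    rw [hP9] at hC9
    have hC' := mem_divisors_of_dvd hC9 (by norm_num)
    rw [show Nat.divisors 9 = {1, 3, 9} by decide] at hC'
    simp only [Finset.mem_insert, Finset.mem_singleton] at hC'
    rcases hC' with e | e | e
    · intro y hy hty
      have := (hC ⟨y, hy⟩).2 hty
      rw [Subgroup.card_eq_one.1 e, Subgroup.mem_bot] at this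
      exact congrArg Subtype.val this
    · omega
    · exfalso
      refine ht1 (sylow_action_faithful hG (p := 3) (by rw [hN]; norm_num) fun Q => ?_)
      by_contra hQ
      haveI : Nonempty {Q : Sylow 3 G // t • Q ≠ Q} := ⟨⟨Q, hQ⟩⟩
      have : 0 < Nat.card {Q : Sylow 3 G // t • Q ≠ Q} := Nat.card_pos
      omega
  obtain ⟨⟨u, huP⟩, hu'⟩ : ∃ u : ↥(P : Subgroup G), u ≠ 1 := by
    haveI : Nontrivial ↥(P : Subgroup G) := Finite.one_lt_card_iff_nontrivial.1 (by omega)
    exact exists_ne 1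
  have hu1 : u ≠ 1 := fun e => hu' (Subtype.ext e)
  have hnsq : ∀ x ∈ (P : Subgroup G), x⁻¹ = x → x = 1 := fun x hx hxx => by
    have h2 : x * x = 1 := by
      have := mul_inv_cancel x
      rwa [hxx] at this
    have hd2 : orderOf x ∣ 2 := orderOf_dvd_of_pow_eq_one (by rw [pow_two]; exact h2)
    have hd9 := Subgroup.orderOf_dvd_natCard _ hx
    rw [hP9] at hd9
    exact orderOf_eq_one_iff.1 (Nat.eq_one_of_dvd_coprimes (by norm_num : Nat.Coprime 2 9) hd2 hd9)
  obtain ⟨d, hdT, hd4⟩ : ∃ d ∈ T, orderOf d = 4 := by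
    by_contra hcon
    push Not at hcon
    have hsq : ∀ t ∈ T, t * t = 1 := by
      intro t ht
      have hd := Subgroup.orderOf_dvd_natCard T ht
      rw [hTc] at hd
      have := mem_divisors_of_dvd hd (by norm_num)
      rw [show Nat.divisors 4 = {1, 2, 4} by decide] at this
      simp only [Finset.mem_insert, Finset.mem_singleton] at this
      rcases this with e | e | e
      · rw [orderOf_eq_one_iff.1 e, one_mul]
      · exact (orderOf_eq_two_iff_sq.1 e).2
      · exact absurd e (hcon t ht)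
    cases nonempty_fintype ↥T
    obtain ⟨s, hs⟩ : ∃ s : ↥T, s ≠ 1 := by
      haveI : Nontrivial ↥T := Finite.one_lt_card_iff_nontrivial.1 (by omega)
      exact exists_ne 1
    obtain ⟨t, ht, hts⟩ : ∃ t : ↥T, t ≠ 1 ∧ t ≠ s := by
      by_contra h
      push Not at h
      have hsub : (Finset.univ : Finset ↥T) ⊆ {1, s} := fun x _ => by
        by_cases hx : x = 1
        · simp [hx]
        · simp [h x hx]
      have := (Finset.card_le_card hsub).trans Finset.card_le_two
      rw [Finset.card_univ, ← Nat.card_eq_fintype_card, hTc] at this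
      omega
    have hs1 : (s : G) ≠ 1 := fun e => hs (Subtype.ext e)
    have ht1 : (t : G) ≠ 1 := fun e => ht (Subtype.ext e)
    have hst : (t : G) * s ≠ 1 := fun e => hts (Subtype.ext (by
      calc (t : G) = t * (s * s) := by rw [hsq s s.2, mul_one]
        _ = s := by rw [← mul_assoc, e, one_mul]))
    have h1 := hinvol _ (mul_mem t.2 s.2) (hsq _ (mul_mem t.2 s.2)) hst u huP
    rw [show (t : G) * s * u * ((t : G) * s)⁻¹ = t * (s * u * (s : G)⁻¹) * (t : G)⁻¹ by group,
      hinvol _ s.2 (hsq s s.2) hs1 u huP, hinvol _ t.2 (hsq t t.2) ht1 _ (inv_mem huP), inv_inv]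
      at h1
    exact hu1 (hnsq u huP h1.symm)
  have hdinv : ∀ x ∈ (P : Subgroup G), d * (d * x * d⁻¹) * d⁻¹ = x⁻¹ := by
    intro x hx
    have h2 : orderOf (d * d) = 2 := by
      rw [← pow_two, orderOf_pow_of_dvd (by norm_num) (by rw [hd4]; norm_num), hd4]
    rw [show d * (d * x * d⁻¹) * d⁻¹ = d * d * x * (d * d)⁻¹ by group]
    exact hinvol _ (mul_mem hdT hdT) (orderOf_eq_two_iff_sq.1 h2).2
      (fun e => by rw [e, orderOf_one] at h2; omega) x hx
  have hTd : Subgroup.zpowers d = T :=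
    Subgroup.eq_of_le_of_card_ge (Subgroup.zpowers_le.2 hdT) (by rw [Nat.card_zpowers, hd4, hTc])
  -- `P` has exponent three
  have hkey : ∀ x ∈ (P : Subgroup G), ∀ k : ℕ, d * x * d⁻¹ = x ^ k → orderOf x ∣ k * k + 1 := by
    intro x hx k hk
    refine orderOf_dvd_of_pow_eq_one ?_
    have h := hdinv x hx
    rw [hk, ← conj_pow, hk, ← pow_mul] at h
    rw [pow_succ, h, inv_mul_cancel]
  have hexp : ∀ x ∈ (P : Subgroup G), x ^ 3 = 1 := by
    intro x hx
    have hd := Subgroup.orderOf_dvd_natCard _ hx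
    rw [hP9] at hd
    have := mem_divisors_of_dvd hd (by norm_num)
    rw [show Nat.divisors 9 = {1, 3, 9} by decide] at this
    simp only [Finset.mem_insert, Finset.mem_singleton] at this
    rcases this with e | e | e
    · rw [orderOf_eq_one_iff.1 e, one_pow]
    · rw [← e, pow_orderOf_eq_one]
    · exfalso
      have hzx : Subgroup.zpowers x = (P : Subgroup G) :=
        Subgroup.eq_of_le_of_card_ge (Subgroup.zpowers_le.2 hx) (by rw [Nat.card_zpowers, e, hP9])
      obtain ⟨k, hk⟩ := mem_powers_iff_mem_zpowers.2 (show d * x * d⁻¹ ∈ Subgroup.zpowers x by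
        rw [hzx]; exact hconjP d hdT x hx)
      have h := hkey x hx k hk.symm
      rw [e] at h
      have h9 : (k * k + 1) % 9 = 0 := Nat.mod_eq_zero_of_dvd h
      rw [Nat.add_mod, Nat.mul_mod] at h9
      have : ∀ r < 9, (r * r % 9 + 1 % 9) % 9 ≠ 0 := by decide
      exact this (k % 9) (Nat.mod_lt _ (by norm_num)) h9
  have hu3 : orderOf u = 3 := orderOf_eq_prime (hexp u huP) hu1
  obtain ⟨v, hv⟩ : ∃ v, v = d * u * d⁻¹ := ⟨_, rfl⟩
  have hvP : v ∈ (P : Subgroup G) := hv ▸ hconjP d hdT u huP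
  have hvu : v ∉ Subgroup.zpowers u := fun hmem => by
    obtain ⟨k, hk⟩ := mem_powers_iff_mem_zpowers.2 hmem
    have h := hkey u huP k (by rw [← hv]; exact hk.symm)
    rw [hu3] at h
    have h9 : (k * k + 1) % 3 = 0 := Nat.mod_eq_zero_of_dvd h
    rw [Nat.add_mod, Nat.mul_mod] at h9
    have : ∀ r < 3, (r * r % 3 + 1 % 3) % 3 ≠ 0 := by decide
    exact this (k % 3) (Nat.mod_lt _ (by norm_num)) h9
  have hcomm : ∀ a ∈ (P : Subgroup G), ∀ b ∈ (P : Subgroup G), a * b = b * a := fun a ha b hb =>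
    congrArg Subtype.val (mul_comm' (⟨a, ha⟩ : (P : Subgroup G)) ⟨b, hb⟩)
  have hmodu : ∀ n, u ^ (n % 3) = u ^ n := fun n => (pow_eq_pow_mod n (hexp u huP)).symm
  have hmodv : ∀ n, v ^ (n % 3) = v ^ n := fun n => (pow_eq_pow_mod n (hexp v hvP)).symm
  -- labelling
  let el : ℕ → G := fun x => u ^ (x % 3) * v ^ (x / 3)
  have helP : ∀ x, el x ∈ (P : Subgroup G) := fun x => mul_mem (pow_mem huP _) (pow_mem hvP _)
  have heltr : ∀ b < 9, ∀ x < 9, el (tr b x) = el b * el x := by
    intro b hb x hx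
    have e1 : tr b x % 3 = (b % 3 + x % 3) % 3 := by rw [tr, if_pos hx]; omega
    have e2 : tr b x / 3 = (b / 3 + x / 3) % 3 := by rw [tr, if_pos hx]; omega
    show u ^ (tr b x % 3) * v ^ (tr b x / 3) = u ^ (b % 3) * v ^ (b / 3) * (u ^ (x % 3) * v ^ (x / 3))
    rw [e1, e2, hmodu, hmodv, pow_add, pow_add]
    have hc := hcomm _ (pow_mem huP (x % 3)) _ (pow_mem hvP (b / 3))
    calc u ^ (b % 3) * u ^ (x % 3) * (v ^ (b / 3) * v ^ (x / 3))
        = u ^ (b % 3) * (u ^ (x % 3) * v ^ (b / 3)) * v ^ (x / 3) := by group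
      _ = u ^ (b % 3) * (v ^ (b / 3) * u ^ (x % 3)) * v ^ (x / 3) := by rw [hc]
      _ = u ^ (b % 3) * v ^ (b / 3) * (u ^ (x % 3) * v ^ (x / 3)) := by group
  have helrot : ∀ x < 9, el (rot x) = d * el x * d⁻¹ := by
    intro x hx
    have e1 : rot x % 3 = (3 - x / 3) % 3 := by rw [rot, if_pos hx]; omega
    have e2 : rot x / 3 = x % 3 := by rw [rot, if_pos hx]; omega
    have hdv : d * v * d⁻¹ = u ^ 2 := by
      rw [hv, hdinv u huP, inv_eq_iff_mul_eq_one, ← pow_succ']
      exact hexp u huP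
    show u ^ (rot x % 3) * v ^ (rot x / 3) = d * (u ^ (x % 3) * v ^ (x / 3)) * d⁻¹
    rw [e1, e2, show d * (u ^ (x % 3) * v ^ (x / 3)) * d⁻¹
      = (d * u * d⁻¹) ^ (x % 3) * (d * v * d⁻¹) ^ (x / 3) by rw [conj_pow, conj_pow]; group,
      ← hv, hdv, ← pow_mul, hcomm _ (pow_mem hvP _) _ (pow_mem huP _), hmodu]
    congr 1
    rw [← hmodu, ← hmodu (2 * (x / 3))]
    congr 1
    omega
  have hel0 : el 0 = 1 := by show u ^ 0 * v ^ 0 = 1; rw [pow_zero, pow_zero, one_mul]
  have hel1 : el 1 = u := by show u ^ 1 * v ^ 0 = u; rw [pow_zero, pow_one, mul_one]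
  have helne : ∀ x < 9, el x = 1 → x = 0 := by
    intro x hx h
    have h' : u ^ (x % 3) * v ^ (x / 3) = 1 := h
    have hj : x / 3 = 0 := by
      by_contra hj
      refine hvu ?_
      have hvj : v ^ (x / 3) ∈ Subgroup.zpowers u := by
        rw [eq_inv_of_mul_eq_one_right h']
        exact inv_mem (pow_mem (Subgroup.mem_zpowers u) _)
      have h2 : (v ^ (x / 3)) ^ (x / 3) = v := by
        rw [← pow_mul, ← hmodv]
        rcases (show x / 3 = 1 ∨ x / 3 = 2 by omega) with e | e <;> simp [e]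
      rw [← h2]
      exact pow_mem hvj _
    rw [hj, pow_zero, mul_one] at h'
    have := orderOf_dvd_of_pow_eq_one h'
    rw [hu3] at this
    omega
  have helinj : ∀ x < 9, ∀ y < 9, el x = el y → x = y := by
    intro x hx y hy h
    obtain ⟨b, hb, hby⟩ : ∃ b < 9, tr b y = 0 := by
      have : ∀ y < 9, ∃ b < 9, tr b y = 0 := by decide +kernel
      exact this y hy
    have h1 : el (tr b x) = 1 := by rw [heltr b hb x hx, h, ← heltr b hb y hy, hby, hel0]
    exact tr_inj b hb x (by omega) y (by omega)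
      ((helne _ ((tr_lt b hb x (by omega)).2.1 hx) h1).trans hby.symm)
  let φ : ℕ → Sylow 3 G := fun x => if x < 9 then el x • R₀ else P
  have hφlt : ∀ x, x < 9 → φ x = el x • R₀ := fun x hx => if_pos hx
  have hφ9 : φ 9 = P := if_neg (by omega)
  have hφinj : ∀ x < 10, ∀ y < 10, φ x = φ y → x = y := by
    intro x hx y hy h
    by_cases hx9 : x < 9 <;> by_cases hy9 : y < 9
    · rw [hφlt x hx9, hφlt y hy9] at h
      exact helinj x hx9 y hy9 (hRinj _ (helP x) _ (helP y) h)
    · rw [hφlt x hx9, show y = 9 by omega, hφ9] at h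
      exact absurd h (hPR _ (helP x))
    · rw [hφlt y hy9, show x = 9 by omega, hφ9] at h
      exact absurd h.symm (hPR _ (helP y))
    · omega
  have hφ : Function.Bijective (fun x : Fin 10 => φ x) :=
    (Nat.bijective_iff_injective_and_card _).2 ⟨fun x y h => Fin.ext (hφinj x x.2 y y.2 h), by
      rw [Nat.card_fin, hn]⟩
  have hsurj : ∀ Q, ∃ x < 10, φ x = Q := fun Q =>
    let ⟨x, hx⟩ := hφ.2 Q; ⟨x, x.2, hx⟩
  -- the action of `P`, `d`
  have htr : ∀ b < 9, ∀ x < 10, el b • φ x = φ (tr b x) := by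
    intro b hb x hx
    by_cases hx9 : x < 9
    · rw [hφlt x hx9, hφlt _ ((tr_lt b hb x hx).2.1 hx9), heltr b hb x hx9]
      exact (mul_smul (el b) (el x) R₀).symm
    · rw [show x = 9 by omega, show tr b 9 = 9 from if_neg (by omega), hφ9]
      exact hfixP _ (helP b)
  have hrot : ∀ x < 10, d • φ x = φ (rot x) := by
    intro x hx
    by_cases hx9 : x < 9
    · rw [hφlt x hx9, hφlt _ ((rot_lt x hx).2.2 hx9).1, helrot x hx9, hactT d hdT]
    · rw [show x = 9 by omega, show rot 9 = 9 from if_neg (by omega), hφ9]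
      exact hTfixP d hdT
  have hrotl : ∀ l, ∀ x < 10, rot^[l] x < 10 ∧ d ^ l • φ x = φ (rot^[l] x) := by
    intro l
    induction l with
    | zero => intro x hx; exact ⟨hx, by rw [pow_zero, one_smul]; rfl⟩
    | succ l ih =>
      intro x hx
      obtain ⟨h1, h2⟩ := ih x hx
      rw [Function.iterate_succ_apply']
      exact ⟨(rot_lt _ h1).1, by rw [pow_succ', mul_smul, h2, hrot _ h1]⟩
  have hφ0 : φ 0 = R₀ := by rw [hφlt 0 (by norm_num), hel0, one_smul]
  -- the swap
  obtain ⟨g₀, hg₀⟩ := MulAction.exists_smul_eq G P R₀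
  obtain ⟨y, hy, hgy⟩ := hsurj (g₀⁻¹ • P)
  have hy9 : y < 9 := by
    by_contra h
    rw [show y = 9 by omega, hφ9, eq_inv_smul_iff, hg₀] at hgy
    exact hR₀ne hgy
  obtain ⟨w₀, hw₀⟩ : ∃ w₀, w₀ = g₀ * el y := ⟨_, rfl⟩
  have hw₀P : w₀ • P = R₀ := by rw [hw₀, mul_smul, hfixP _ (helP y), hg₀]
  have hw₀R : w₀ • R₀ = P := by
    rw [hw₀, mul_smul, ← hφlt y hy9, hgy, smul_inv_smul]
  have hnear : ∀ w : G, w • P = R₀ → w • R₀ = P → ∀ x < 9, x ≠ 0 →
      ∃ z < 9, z ≠ 0 ∧ w • φ x = φ z := by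
    intro w hwP hwR x hx hx0
    obtain ⟨z, hz, hzx⟩ := hsurj (w • φ x)
    refine ⟨z, ?_, fun e => ?_, hzx.symm⟩
    · by_contra h
      rw [show z = 9 by omega, hφ9, ← hwR] at hzx
      exact hx0 (hφinj x (by omega) 0 (by omega) ((smul_left_cancel w hzx.symm).trans hφ0.symm))
    · rw [e, hφ0, ← hwP] at hzx
      have := hφinj x (by omega) 9 (by omega) ((smul_left_cancel w hzx.symm).trans hφ9.symm)
      omega
  obtain ⟨c₀, hc₀9, hc₀0, hc₀⟩ := hnear w₀ hw₀P hw₀R 1 (by norm_num) one_ne_zero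
  obtain ⟨i, hi4, hi⟩ := rot_normalise c₀ hc₀9 hc₀0
  obtain ⟨w, hw⟩ : ∃ w, w = d ^ i * w₀ := ⟨_, rfl⟩
  have hdiT : d ^ i ∈ T := pow_mem hdT i
  have hwP : w • P = R₀ := by rw [hw, mul_smul, hw₀P, hTfixR _ hdiT]
  have hwR : w • R₀ = P := by rw [hw, mul_smul, hw₀R, hTfixP _ hdiT]
  obtain ⟨c, hc9, hc0, hcv, hwc⟩ : ∃ c < 9, c ≠ 0 ∧ (c = 1 ∨ c = 4) ∧ w • φ 1 = φ c := by
    refine ⟨rot^[i] c₀, ?_, ?_, hi, ?_⟩
    · rcases hi with h | h <;> omega
    · rcases hi with h | h <;> omega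
    · rw [hw, mul_smul, hc₀, (hrotl i c₀ (by omega)).2]
  obtain ⟨e, he9, he0, hwe⟩ := hnear w hwP hwR 4 (by norm_num) (by norm_num)
  have hwinvP : w⁻¹ • P = R₀ := by rw [inv_smul_eq_iff, hwR]
  have hwinvR : w⁻¹ • R₀ = P := by rw [inv_smul_eq_iff, hwP]
  obtain ⟨k, hk, hwd⟩ : ∃ k < 4, w * d * w⁻¹ = d ^ k := by
    have hmem : w * d * w⁻¹ ∈ T := hmemT _
      (by rw [mul_smul, mul_smul, hwinvP, hTfixR d hdT, hwR])
      (by rw [mul_smul, mul_smul, hwinvR, hTfixP d hdT, hwP])
    rw [← hTd] at hmem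
    obtain ⟨k, hk⟩ := mem_powers_iff_mem_zpowers.2 hmem
    refine ⟨k % 4, Nat.mod_lt _ (by norm_num), ?_⟩
    rw [← hd4, pow_mod_orderOf]
    exact hk.symm
  have hstep : ∀ l, ∀ x < 10, ∀ z < 10, w • φ x = φ z →
      w • φ (rot^[l] x) = φ (rot^[k * l] z) := by
    intro l x hx z hz h
    rw [← (hrotl l x hx).2, ← (hrotl (k * l) z hz).2, ← h, pow_mul, ← hwd, conj_pow,
      ← mul_smul, ← mul_smul]
    congr 1
    group
  have hW : ∀ x < 10, wCand k c e x < 10 ∧ w • φ x = φ (wCand k c e x) := by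
    intro x hx
    by_cases hx0 : x = 0
    · subst hx0
      exact ⟨by rw [wCand, if_pos rfl]; norm_num, by rw [wCand, if_pos rfl, hφ0, hφ9, hwR]⟩
    by_cases hx9 : x < 9
    · obtain ⟨hidx, hbase⟩ := rot_orbit x hx9 hx0
      rw [wCand, if_neg hx0, if_pos hx9]
      split
      next h =>
        rw [if_pos h] at hbase
        refine ⟨(hrotl _ c (by omega)).1, ?_⟩
        conv_lhs => rw [← hbase]
        exact hstep _ 1 (by norm_num) c (by omega) hwc
      next h =>
        rw [if_neg h] at hbase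
        refine ⟨(hrotl _ e (by omega)).1, ?_⟩
        conv_lhs => rw [← hbase]
        exact hstep _ 4 (by norm_num) e (by omega) hwe
    · rw [wCand, if_neg hx0, if_neg hx9, show x = 9 by omega, hφ9, hφ0]
      exact ⟨by norm_num, hwP⟩
  -- the product `w u w`
  obtain ⟨h, hh⟩ : ∃ h, h = w⁻¹ * (el c)⁻¹ * w * u * w := ⟨_, rfl⟩
  have hhP : h • P = P := by
    have h1 : u • R₀ = φ 1 := by rw [hφlt 1 (by norm_num), hel1]
    have h2 : (el c)⁻¹ • φ c = R₀ := by rw [inv_smul_eq_iff, hφlt c hc9]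
    rw [hh, mul_smul, mul_smul, mul_smul, mul_smul, hwP, h1, hwc, h2, hwinvR]
  have hnorm : ∀ g, g • P = P → ∃ b < 9, ∃ l < 4, g = el b * d ^ l := by
    intro g hg
    obtain ⟨b, hb, hgb⟩ := hsurj (g • R₀)
    have hb9 : b < 9 := by
      by_contra hb'
      rw [show b = 9 by omega, hφ9] at hgb
      exact hR₀ne (smul_left_cancel g (hgb.symm.trans hg.symm))
    rw [hφlt b hb9] at hgb
    have hmem : (el b)⁻¹ * g ∈ T := hmemT _
      (by rw [mul_smul, hg, inv_smul_eq_iff, hfixP _ (helP b)])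
      (by rw [mul_smul, ← hgb, inv_smul_smul])
    rw [← hTd] at hmem
    obtain ⟨l, hl⟩ := mem_powers_iff_mem_zpowers.2 hmem
    refine ⟨b, hb9, l % 4, Nat.mod_lt _ (by norm_num), ?_⟩
    rw [← hd4, pow_mod_orderOf, show d ^ l = (el b)⁻¹ * g from hl, mul_inv_cancel_left]
  obtain ⟨b, hb, l, hl, hbl⟩ := hnorm h hhP
  have htest : test k c e = true := by
    simp only [test, List.any_eq_true, List.all_eq_true, List.mem_range, beq_iff_eq]
    refine ⟨b, hb, l, hl, fun x hx => ?_⟩
    obtain ⟨h1, h1'⟩ := hrotl l x hx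
    have h2 := (tr_lt b hb _ h1).1
    obtain ⟨h3, h3'⟩ := hW _ h2
    obtain ⟨h4, h4'⟩ := hW x hx
    have h5 : tr 1 (wCand k c e x) < 10 := (rot_lt _ h4).2.1
    obtain ⟨h6, h6'⟩ := hW _ h5
    refine hφinj _ h6 _ (tr_lt c hc9 _ h3).1 ?_
    rw [← h6', ← htr 1 (by norm_num) _ h4, hel1, ← h4', ← htr c hc9 _ h3, ← h3',
      ← htr b hb _ h1, ← h1']
    simp only [← mul_smul]
    congr 1
    rw [show el b * d ^ l = h from hbl.symm] at *
    rw [hh]
    group
  have hfinal := classify k hk c hc9 hcv e he9 he0 htest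
  -- the representation
  let E' := Equiv.ofBijective _ hφ
  let ρ : G →* Equiv.Perm (Fin 10) :=
    (Equiv.permCongrHom E'.symm).toMonoidHom.comp (MulAction.toPermHom G (Sylow 3 G))
  have hρ : ∀ (g : G) (F : ℕ → ℕ), (∀ x < 10, F x < 10 ∧ g • φ x = φ (F x)) →
      ∀ x : Fin 10, (ρ g x : ℕ) = F x := by
    intro g F hF x
    have h : ρ g x = ⟨F x, (hF x x.2).1⟩ := by
      show E'.symm (g • φ x) = _
      rw [Equiv.symm_apply_eq]
      exact (hF x x.2).2
    rw [h]
  have hρinj : Function.Injective ρ := by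
    refine (injective_iff_map_eq_one ρ).2 fun g hg =>
      sylow_action_faithful hG (p := 3) (by rw [hN]; norm_num) fun Q => ?_
    obtain ⟨x, rfl⟩ := hφ.2 Q
    have h : E'.symm (g • φ x) = x := by
      show ρ g x = x
      rw [hg]; rfl
    rw [Equiv.symm_apply_eq] at h
    exact h
  have hρu : ∀ x : Fin 10, (ρ u x : ℕ) = tr 1 x := hρ u _ fun x hx =>
    ⟨(rot_lt x hx).2.1, by rw [← htr 1 (by norm_num) x hx, hel1]⟩
  have hρd : ∀ x : Fin 10, (ρ d x : ℕ) = rot x := hρ d _ fun x hx => ⟨(rot_lt x hx).1, hrot x hx⟩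
  have hρw : ∀ x : Fin 10, (ρ w x : ℕ) = wFix x := hρ w _ fun x hx => hfinal x hx ▸ hW x hx
  refine ⟨ρ, hρinj, le_antisymm ?_ ((Subgroup.closure_le _).2 ?_)⟩
  · rintro _ ⟨g, rfl⟩
    set K := (Subgroup.closure genSet).comap ρ with hK
    have huK : u ∈ K := Subgroup.subset_closure (Or.inl hρu)
    have hdK : d ∈ K := Subgroup.subset_closure (Or.inr (Or.inl hρd))
    have hwK : w ∈ K := Subgroup.subset_closure (Or.inr (Or.inr hρw))
    have hstab : ∀ g, g • P = P → g ∈ K := fun g hg => by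
      obtain ⟨b, -, l, -, rfl⟩ := hnorm g hg
      refine mul_mem (mul_mem (pow_mem huK _) (pow_mem ?_ _)) (pow_mem hdK _)
      rw [hv]
      exact mul_mem (mul_mem hdK huK) (inv_mem hdK)
    show g ∈ K
    obtain ⟨x, hx, hgx⟩ := hsurj (g • P)
    by_cases hx9 : x < 9
    · have h1 : ((el x * w)⁻¹ * g) • P = P := by
        rw [mul_smul, ← hgx, inv_smul_eq_iff, mul_smul, hwP, hφlt x hx9]
      rw [← mul_inv_cancel_left (el x * w) g]
      exact mul_mem (mul_mem (hstab _ (hfixP _ (helP x))) hwK) (hstab _ h1)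
    · exact hstab g (by rw [← hgx, show x = 9 by omega, hφ9])
  · rintro σ (hσ | hσ | hσ)
    · exact ⟨u, Equiv.ext fun x => Fin.ext ((hρu x).trans (hσ x).symm)⟩
    · exact ⟨d, Equiv.ext fun x => Fin.ext ((hρd x).trans (hσ x).symm)⟩
    · exact ⟨w, Equiv.ext fun x => Fin.ext ((hρw x).trans (hσ x).symm)⟩

/-- Two simple groups of order 360 are isomorphic. -/
theorem nonempty_mulEquiv {H : Type*} [Group H] [Finite H] [IsSimpleGroup H]
    (hN : Nat.card G = 360) (hH : Nat.card H = 360) : Nonempty (G ≃* H) := by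
  obtain ⟨ρ, hρ, hρr⟩ := exists_model hN
  obtain ⟨σ, hσ, hσr⟩ := exists_model hH
  exact ⟨(MonoidHom.ofInjective hρ).trans
    ((MulEquiv.subgroupCongr (hρr.trans hσr.symm)).trans (MonoidHom.ofInjective hσ).symm)⟩

end CfsgLib.Classification.SimpleThreeSixty
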