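import Mathlib.Data.List.Basic
import Mathlib.Logic.Function.Iterate

/-!
# Candidates for the tenth generator of a permutation group of order 360

The points `0, …, 8` stand for pairs of residues modulo `3` and `9` is the remaining point.
-/

set_option autoImplicit false

namespace CfsgLib.Classification.SimpleThreeSixty

/-- Translation by the pair `b`. -/
def tr (b x : ℕ) : ℕ := if x < 9 then (b % 3 + x % 3) % 3 + 3 * ((b / 3 + x / 3) % 3) else 9

/-- The element of order four `(i, j) ↦ (-j, i)`. -/
def rot (x : ℕ) : ℕ := if x < 9 then (3 - x / 3) % 3 + 3 * (x % 3) else 9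

/-- Position of `x` in its `rot`-orbit through `1` or `4`. -/
def rotIndex (x : ℕ) : ℕ := [0, 0, 2, 1, 0, 1, 3, 3, 2, 0].getD x 0

/-- The candidate `rot^i 1 ↦ rot^(k i) c`, `rot^i 4 ↦ rot^(k i) e`. -/
def wCand (k c e x : ℕ) : ℕ :=
  if x = 0 then 9
  else if x < 9 then
    rot^[k * rotIndex x] (if [1, 2, 3, 6].contains x then c else e)
  else 0

/-- The surviving candidate. -/
def wFix (x : ℕ) : ℕ := [9, 1, 2, 6, 5, 4, 3, 8, 7, 0].getD x 0

/-- `w u w ∈ U w N` for the candidate `w`. -/
def test (k c e : ℕ) : Bool :=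
  (List.range 9).any fun b => (List.range 4).any fun l => (List.range 10).all fun x =>
    wCand k c e (tr 1 (wCand k c e x)) == tr c (wCand k c e (tr b (rot^[l] x)))

theorem classify : ∀ k < 4, ∀ c < 9, (c = 1 ∨ c = 4) → ∀ e < 9, e ≠ 0 → test k c e = true →
    ∀ x < 10, wCand k c e x = wFix x := by
  have h : ((List.range 4).all fun k => [1, 4].all fun c => (List.range 9).all fun e =>
      e == 0 || !test k c e || (List.range 10).all fun x => wCand k c e x == wFix x) = true := by
    decide +kernel
  intro k hk c _ hc' e he he0 ht x hx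
  simp only [List.all_eq_true, List.mem_range, Bool.or_eq_true, Bool.not_eq_true', beq_iff_eq] at h
  rcases h k hk c (by rcases hc' with rfl | rfl <;> simp) e he with (h' | h') | h'
  · exact absurd h' he0
  · rw [ht] at h'; exact absurd h' (by decide)
  · exact h' x hx

/-- Every nonzero point is in one of the two orbits. -/
theorem rot_orbit : ∀ x < 9, x ≠ 0 → rotIndex x < 4 ∧
    rot^[rotIndex x] (if [1, 2, 3, 6].contains x then 1 else 4) = x := by
  decide +kernel

/-- Every nonzero point is rotated to `1` or `4`. -/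
theorem rot_normalise : ∀ x < 9, x ≠ 0 → ∃ i < 4, rot^[i] x = 1 ∨ rot^[i] x = 4 := by
  decide +kernel

theorem rot_lt : ∀ x < 10, rot x < 10 ∧ tr 1 x < 10 ∧ (x < 9 → rot x < 9 ∧ tr 1 x < 9) := by
  decide +kernel

theorem tr_lt : ∀ b < 9, ∀ x < 10, tr b x < 10 ∧ (x < 9 → tr b x < 9) ∧ tr b 0 = b := by
  decide +kernel

theorem tr_inj : ∀ b < 9, ∀ x < 10, ∀ y < 10, tr b x = tr b y → x = y := by
  decide +kernel

theorem rot_iterate_lt : ∀ l < 4, ∀ x < 10, rot^[l] x < 10 ∧ (x ≠ 0 → x < 9 → rot^[l] x ≠ 0) := by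
  decide +kernel

end CfsgLib.Classification.SimpleThreeSixty
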